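import Cfsg.Agent.H315.CY.StWrap
import Cfsg.Agent.H740.Eight.TwFTwo
import Cfsg.Agent.KFacts.TwF4.TorFix
import Cfsg.Agent.KFacts.TwF4.AutTau
import Cfsg.Agent.KFacts.TwF4.Perf
import Cfsg.Agent.KFacts.TwF4.Full
import Cfsg.Agent.KFacts.TwF4.SylU
import Cfsg.Agent.H788.RatB.Rat_m3
import Cfsg.Agent.H145.BR.RowZ
import Cfsg.Agent.S1068
import Cfsg.Agent.KFacts.TwF4.AutNorm
import Cfsg.Agent.H145.BR.Table_m3
import Cfsg.Agent.FastGrp
import Cfsg.Agent.Prune
set_option linter.all false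

section
prune_inst 0x7f00000000000000000000000000000000000000000000000000000000000000000000000000000000000000000000000000000000000000000000000000000000000000000000000000000000000000003fffffffffffffffffffffffffffbeffbdffffffff

-- part: H978/BR/TwF
section
set_option linter.all false
open scoped Cfsg.Agent.FastGrp

/-!
# S4891: the row `²F₄(q)` (helper978)

`row_tf4` : the Steinberg character is a witness for every odd prime.
-/

set_option autoImplicit false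
set_option linter.unusedSectionVars false

open Cfsg Cfsg.Lie

namespace Cfsg.Agent.H978.BR

open Cfsg.Agent.KFacts.TwF4 Cfsg.Agent.KFacts.TwF4.AutTau
open Cfsg.Agent.SplitTwo Cfsg.Agent.SplitTwo.ZS Cfsg.Agent.TitsThree.RankTwoZ Cfsg.Agent.TitsThree.RankTwoRGD
open Cfsg.Agent.SplitTwo.RootSysZ

section full

variable {F : Type*} [Field F] {σ : F →+* F} {G : Type*} [Group G] (S : Full σ G)

/-- the elements of order dividing `p` of the torus -/
def TQ (p : ℕ) : Subgroup G where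
  carrier := {g | ∃ c d : Fˣ, c ^ p = 1 ∧ d ^ p = 1 ∧ S.h c d = g}
  one_mem' := ⟨1, 1, one_pow _, one_pow _, S.h_one⟩
  mul_mem' := by
    rintro _ _ ⟨c, d, hc, hd, rfl⟩ ⟨c', d', hc', hd', rfl⟩
    exact ⟨c * c', d * d', by rw [mul_pow, hc, hc', one_mul], by rw [mul_pow, hd, hd', one_mul], (S.h_mul _ _ _ _).symm⟩
  inv_mem' := by
    rintro _ ⟨c, d, hc, hd, rfl⟩
    exact ⟨c⁻¹, d⁻¹, by rw [inv_pow, hc, inv_one], by rw [inv_pow, hd, inv_one], (S.h_inv _ _).symm⟩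

theorem h_pow (c d : Fˣ) (n : ℕ) : S.h c d ^ n = S.h (c ^ n) (d ^ n) := by
  induction n with
  | zero => rw [pow_zero, pow_zero, pow_zero, S.h_one]
  | succ n ih => rw [pow_succ, ih, S.h_mul, pow_succ, pow_succ]

theorem TQ_le (p : ℕ) : TQ S p ≤ S.T := by
  rintro _ ⟨c, d, -, -, rfl⟩
  exact S.mem_T.2 ⟨c, d, rfl⟩

theorem TQ_p (p : ℕ) : IsPGroup p (TQ S p) := by
  rintro ⟨_, c, d, hc, hd, rfl⟩
  refine ⟨1, Subtype.ext ?_⟩
  show S.h c d ^ p ^ 1 = 1
  rw [pow_one, h_pow, hc, hd, S.h_one]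

variable {p : ℕ} {c : Fˣ}

theorem h_ne {c d : Fˣ} (h : c ≠ 1 ∨ d ≠ 1) : S.h c d ≠ 1 := by
  intro h1
  rw [← S.h_one] at h1
  obtain ⟨h2, h3⟩ := S.h_inj _ _ _ _ h1
  rcases h with h | h
  · exact h h2
  · exact h h3

theorem t0_mem (hc : c ^ p = 1) : S.h 1 c ∈ TQ S p := ⟨1, c, one_pow _, hc, rfl⟩
theorem t1_mem (hc : c ^ p = 1) : S.h c c⁻¹ ∈ TQ S p := ⟨c, c⁻¹, hc, by rw [inv_pow, hc, inv_one], rfl⟩
theorem t2_mem (hc : c ^ p = 1) : S.h c 1 ∈ TQ S p := ⟨c, 1, hc, one_pow _, rfl⟩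

theorem t0_T0 : S.h 1 c ∈ S.Tk 0 := S.mem_Tk_zero.2 ⟨c, rfl⟩
theorem t0_T8 : S.h 1 c ∈ S.Tk 8 := by
  have h := (mem_Tk_even S 4 1 c).2 (by
    have e : ((4 : ℤ) : ZMod 8) = 4 := rfl
    rw [e, chE_four, inv_one])
  exact h
theorem t1_T1 : S.h c c⁻¹ ∈ S.Tk 1 := S.mem_Tk_one.2 ⟨c, rfl⟩

theorem comm_conj {t x : G} (h : t * x = x * t) : t * x * t⁻¹ = x := by rw [h]; group

/-- `C_U(Q) = 1` -/
theorem CU (hc : c ^ p = 1) (hc1 : c ≠ 1) {u : G} (hu : u ∈ J S.XZ 1 8) (h : ∀ q ∈ TQ S p, q * u = u * q) : u = 1 := by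
  have h1 : u ∈ S.XZ 8 := S.fix_J (k := 8) (t0_T8 S) (h_ne S (Or.inr hc1)) (a := 1) (b := 8) (by norm_num) (by norm_num)
    (by norm_num) hu (comm_conj (h _ (t0_mem S hc)))
  exact S.fpf (k := 1) (j := 8) (by norm_num) (t1_T1 S) (h_ne S (Or.inl hc1)) h1 (comm_conj (h _ (t1_mem S hc)))

/-- a dihedral element centralizing `Q` lies in the torus -/
theorem CN (hp : Odd p) (hc : c ^ p = 1) (hc1 : c ≠ 1) {n : G} (hn : S.IsDihE n) (h : ∀ q ∈ TQ S p, q * n = n * q) :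
    n ∈ S.T := by
  have hdvd : ∀ (k j : ℤ) (t x : G), t ∈ S.Tk k → t ≠ 1 → t ∈ TQ S p → x ≠ 1 → t * x = x * t →
      n * x * n⁻¹ ∈ S.XZ j → (8 : ℤ) ∣ j - k := by
    intro k j t x ht ht1 htQ hx htx hj
    by_contra hd
    have h1 := S.fpf (k := k) (j := j) hd ht ht1 hj (by
      have h2 := h t htQ
      calc t * (n * x * n⁻¹) * t⁻¹ = (t * n) * x * (n⁻¹ * t⁻¹) := by group
        _ = n * t * x * (n⁻¹ * t⁻¹) := by rw [h2]
        _ = n * (t * x) * (t * n)⁻¹ := by group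
        _ = n * (x * t) * (n * t)⁻¹ := by rw [htx, h2]
        _ = n * x * n⁻¹ := by group)
    apply hx
    have h3 : x = n⁻¹ * (n * x * n⁻¹) * n := by group
    rw [h3, h1]; group
  have e0 : S.e 0 1 0 ∈ S.XZ 0 := S.e_mem 0 1 0
  have e0' : S.e 0 1 0 ∈ S.R.X ((0 : ℤ) : ZMod (2 * 8)) := e0
  have e0ne : S.e 0 (1 : F) 0 ≠ 1 := by
    intro h1
    rw [← S.e_zero 0] at h1
    exact one_ne_zero (S.injE _ _ _ _ _ h1).1
  have o1 : S.o 0 1 ∈ S.XZ 1 := S.o_mem 0 1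
  have o1' : S.o 0 1 ∈ S.R.X ((1 : ℤ) : ZMod (2 * 8)) := o1
  have o1ne : S.o 0 (1 : F) ≠ 1 := by
    intro h1
    rw [← S.o_zero 0] at h1
    exact one_ne_zero (S.injO _ h1)
  have c0 : S.h 1 c * S.e 0 1 0 = S.e 0 1 0 * S.h 1 c := Full.Tk_comm S (k := 0) (t0_T0 S) e0
  have c1 : S.h c c⁻¹ * S.o 0 1 = S.o 0 1 * S.h c c⁻¹ := Full.Tk_comm S (k := 1) (t1_T1 S) o1
  obtain ⟨b, hm | hm⟩ := hn
  · -- rotation
    have h1 : n * S.e 0 1 0 * n⁻¹ ∈ S.XZ (2 * b + 0) := by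
      have h2 := (hm _ _).2 e0'
      show _ ∈ S.R.X _
      rw [Int.cast_add]
      exact h2
    have h2 := hdvd 0 _ _ _ (t0_T0 S) (h_ne S (Or.inr hc1)) (t0_mem S hc) e0ne c0 h1
    by_cases h16 : (16 : ℤ) ∣ 2 * b
    · rw [S.T_iff]
      refine hm.congr fun k => ?_
      have : ((2 * b : ℤ) : ZMod (2 * 8)) = 0 := (ZMod.intCast_zmod_eq_zero_iff_dvd _ 16).2 h16
      rw [this, zero_add]; rfl
    · exfalso
      have h8 : (16 : ℤ) ∣ 2 * b - 8 := by omega
      have e8 : ((2 * b : ℤ) : ZMod (2 * 8)) = ((2 * 4 : ℤ) : ZMod (2 * 8)) := by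
        rw [← sub_eq_zero, ← Int.cast_sub]
        exact (ZMod.intCast_zmod_eq_zero_iff_dvd _ 16).2 h8
      have hr := S.rot_maps 4
      have hri : Maps S.R.X (S.rot ^ (4 : ℤ))⁻¹ (fun j => ((2 * 4 : ℤ) : ZMod (2 * 8)) + j) := hr.inv (fun k => by
        show ((2 * 4 : ℤ) : ZMod (2 * 8)) + (((2 * 4 : ℤ) : ZMod (2 * 8)) + k) = k
        rw [← add_assoc]
        have : ((2 * 4 : ℤ) : ZMod (2 * 8)) + ((2 * 4 : ℤ) : ZMod (2 * 8)) = 0 := by decide
        rw [this, zero_add])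
      have ht : (S.rot ^ (4 : ℤ))⁻¹ * n ∈ S.T := by
        rw [S.T_iff]
        refine (hri.mul hm).congr fun k => ?_
        show ((2 * 4 : ℤ) : ZMod (2 * 8)) + (((2 * b : ℤ) : ZMod (2 * 8)) + k) = k
        rw [e8, ← add_assoc]
        have : ((2 * 4 : ℤ) : ZMod (2 * 8)) + ((2 * 4 : ℤ) : ZMod (2 * 8)) = 0 := by decide
        rw [this, zero_add]
      set x := S.h c 1 with hx
      have hxQ : x ∈ TQ S p := t2_mem S hc
      have hxT : x ∈ S.T := TQ_le S p hxQ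
      have hxn := h x hxQ
      set w := S.rot ^ (4 : ℤ) with hw
      have hxw : x * w = w * x := by
        have h3 : x * (w⁻¹ * n) = w⁻¹ * n * x := S.T_comm hxT ht
        calc x * w = x * n * (w⁻¹ * n)⁻¹ := by group
          _ = n * x * (w⁻¹ * n)⁻¹ := by rw [hxn]
          _ = w * ((w⁻¹ * n) * x) * (w⁻¹ * n)⁻¹ := by group
          _ = w * (x * (w⁻¹ * n)) * (w⁻¹ * n)⁻¹ := by rw [h3]
          _ = w * x := by group
      have r1 : ∀ q u : F, w * S.e 0 q u * w⁻¹ = S.e 4 q u := by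
        intro q u
        have h4 := S.rotk_e 4 0 q u
        have e4 : (0 : ZMod 8) + ((4 : ℤ) : ZMod 8) = 4 := by decide
        rw [e4] at h4
        exact h4
      have r2 := S.h_e c 1 0 1 0
      have r3 := S.h_e c 1 4 1 0
      rw [chE_zero, mul_one, mul_zero] at r2
      rw [chE_four, mul_one, mul_zero] at r3
      have r4 : S.e 4 (c : F) 0 = S.e 4 ((c⁻¹ : Fˣ) : F) 0 := by
        rw [← r1, ← r2, ← r3, ← r1]
        calc w * (S.h c 1 * S.e 0 1 0 * (S.h c 1)⁻¹) * w⁻¹ = (w * x) * S.e 0 1 0 * (w * x)⁻¹ := by rw [hx]; group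
          _ = (x * w) * S.e 0 1 0 * (x * w)⁻¹ := by rw [hxw]
          _ = S.h c 1 * (w * S.e 0 1 0 * w⁻¹) * (S.h c 1)⁻¹ := by rw [hx]; group
      have r5 : c = c⁻¹ := Units.ext (S.injE _ _ _ _ _ r4).1
      apply hc1
      obtain ⟨k, hk⟩ := hp
      have h6 : c ^ 2 = 1 := by
        rw [pow_two]
        nth_rw 2 [r5]
        exact mul_inv_cancel c
      rw [hk, pow_succ, pow_mul, h6, one_pow, one_mul] at hc
      exact hc
  · -- reflection
    exfalso
    have h1 : n * S.e 0 1 0 * n⁻¹ ∈ S.XZ (2 * b - 0) := by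
      have h2 := (hm _ _).2 e0'
      show _ ∈ S.R.X _
      rw [Int.cast_sub]
      exact h2
    have h2 := hdvd 0 _ _ _ (t0_T0 S) (h_ne S (Or.inr hc1)) (t0_mem S hc) e0ne c0 h1
    have h3 : n * S.o 0 1 * n⁻¹ ∈ S.XZ (2 * b - 1) := by
      have h2 := (hm _ _).2 o1'
      show _ ∈ S.R.X _
      rw [Int.cast_sub]
      exact h2
    have h4 := hdvd 1 _ _ _ (t1_T1 S) (h_ne S (Or.inl hc1)) (t1_mem S hc) o1ne c1 h3
    omega

/-- **`C(Q) = T`** for the `p`-part `Q` of the torus -/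
theorem cent_TQ [Finite F] [Finite G] (hR : S.R.p = 2) [hpp : Fact p.Prime] (hp2 : p ≠ 2) (hc : c ^ p = 1) (hc1 : c ≠ 1) :
    Subgroup.centralizer (TQ S p : Set G) ≤ S.T := by
  have : Fact (Nat.Prime 2) := ⟨Nat.prime_two⟩
  refine cent_le (r := 2) (U := J S.XZ 1 8) (T := S.T) (W := {w | S.IsDihE w})
    (Cfsg.Agent.KFacts.TwF4.Perf.two_J S hR (by norm_num)) (fun t ht hu => S.U_inf_T ht hu)
    (fun t ht u hu => S.T_conj_J ht hu) ?_ ?_ (fun s hs t ht => S.T_comm hs ht) hp2 (TQ_p S p) (TQ_le S p)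
    (fun u hu h => CU S hc hc1 hu h) ?_
  · rintro w ⟨b, hw | hw⟩ t ht
    · rw [S.T_iff]
      have hi := hw.inv (g := fun k => -((2 * b : ℤ) : ZMod (2 * 8)) + k) (fun k => by ring)
      refine ((hi.mul ht).mul hw).congr fun k => ?_
      show -((2 * b : ℤ) : ZMod (2 * 8)) + (((2 * b : ℤ) : ZMod (2 * 8)) + k) = k
      ring
    · rw [S.T_iff]
      have hi := hw.inv (g := fun k => ((2 * b : ℤ) : ZMod (2 * 8)) - k) (fun k => by ring)
      refine ((hi.mul ht).mul hw).congr fun k => ?_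
      show ((2 * b : ℤ) : ZMod (2 * 8)) - (((2 * b : ℤ) : ZMod (2 * 8)) - k) = k
      ring
  · intro g
    obtain ⟨b, hb, t, ht, w, hw, b', hb', e⟩ := S.bruhatE g
    exact ⟨b, hb, t, ht, w, hw, b', hb', e⟩
  · rintro t ht w ⟨b, hw | hw⟩ h
    · refine CN S (hpp.out.odd_of_ne_two hp2) hc hc1 ⟨b, Or.inl ?_⟩ h
      exact (Maps.mul ht hw).congr fun k => rfl
    · refine CN S (hpp.out.odd_of_ne_two hp2) hc hc1 ⟨b, Or.inr ?_⟩ h
      exact (Maps.mul ht hw).congr fun k => rfl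

end full

section main

open Cfsg.Agent.ChevalleyStructure.TwF4.Rel Cfsg.Agent.ChevalleyStructure.TwF4.TwistedFix
open Cfsg.Agent.KFacts.TwF4.Inst Cfsg.Agent.H116.RatB0
open Cfsg.Agent.H145.BR (RowInt RowZ RowForT RowForZ)

variable {K : Type} [Field K] [Fintype K] {m : ℕ}

/-- a split Borel subgroup is the product of `U` and the torus -/
theorem card_B {G : Type*} [Group G] {P : Cfsg.BNPair G} {r : ℕ} [hr : Fact r.Prime] {U : Subgroup G}
    (h : FixBN.Split P r U) : Nat.card P.B = Nat.card U * Nat.card ↥(P.B ⊓ P.N) := by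
  have hUT : ∀ t ∈ P.B ⊓ P.N, t ∈ U → t = 1 := by
    intro t ht htU
    obtain ⟨m, hm, hm'⟩ := h.tor
    have h1 := hm' t ht.1 ht.2
    obtain ⟨k, hk⟩ := IsPGroup.iff_orderOf.1 h.isP ⟨t, htU⟩
    rw [Subgroup.orderOf_mk] at hk
    have h2 : orderOf t ∣ m := orderOf_dvd_of_pow_eq_one h1
    rw [hk] at h2
    rcases Nat.eq_zero_or_pos k with h3 | h3
    · rw [h3, pow_zero] at hk
      exact orderOf_eq_one_iff.1 hk
    · exact absurd ((dvd_pow_self r h3.ne').trans h2) hm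
  rw [← Nat.card_prod]
  symm
  refine Nat.card_congr (Equiv.ofBijective (fun x : U × ↥(P.B ⊓ P.N) =>
    (⟨(x.1 : G) * (x.2 : G), mul_mem (h.le x.1.2) x.2.2.1⟩ : P.B)) ⟨?_, ?_⟩)
  · rintro ⟨⟨u, hu⟩, ⟨t, ht⟩⟩ ⟨⟨u', hu'⟩, ⟨t', ht'⟩⟩ e
    have e1 : u * t = u' * t' := congrArg Subtype.val e
    have e2 : u'⁻¹ * u = t' * t⁻¹ := by
      rw [inv_mul_eq_iff_eq_mul, ← mul_assoc, ← e1]; group
    have e3 : t' * t⁻¹ = 1 := hUT _ (mul_mem ht' (inv_mem ht)) (by rw [← e2]; exact mul_mem (inv_mem hu') hu)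
    rw [e3] at e2
    have e4 : u = u' := (inv_mul_eq_one.1 e2).symm
    have e5 : t = t' := (mul_inv_eq_one.1 e3).symm
    subst e4 e5
    rfl
  · rintro ⟨b, hb⟩
    obtain ⟨u, hu, hub⟩ := h.cover b hb
    exact ⟨⟨⟨u, hu⟩, ⟨u⁻¹ * b, Subgroup.mem_inf.2 ⟨mul_mem (inv_mem (h.le hu)) hb, hub⟩⟩⟩,
      Subtype.ext (by show u * (u⁻¹ * b) = b; group)⟩

theorem arith_idx {q x y i c : ℕ} (hq : 2 ≤ q) (hc : 0 < c) (h : c * (q - 1) ^ 2 * (x + 1) * i =
    c * (q - 1) * (q ^ 3 + 1) * (q ^ 4 - 1) * (q ^ 6 + 1)) (hxy : (x + 1) * (y + 1) = (q + 1) * (q ^ 2 + 1)) :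
    i = (q ^ 3 + 1) * (y + 1) * (q ^ 6 + 1) := by
  have h4 : q ^ 4 - 1 = (q - 1) * ((q + 1) * (q ^ 2 + 1)) := by
    obtain ⟨k, rfl⟩ : ∃ k, q = k + 1 := ⟨q - 1, by omega⟩
    have : 1 ≤ (k + 1) ^ 4 := Nat.one_le_pow _ _ (by omega)
    zify [this]
    push_cast
    have e : ((k : ℤ) + 1 - 1) = k := by ring
    ring
  rw [h4, ← hxy] at h
  have h5 : 0 < (q - 1) ^ 2 := by
    have : 0 < q - 1 := by omega
    positivity
  have h6 : (c * (q - 1) ^ 2 * (x + 1)) * i = (c * (q - 1) ^ 2 * (x + 1)) * ((q ^ 3 + 1) * (y + 1) * (q ^ 6 + 1)) := by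
    rw [h]; ring
  exact Nat.eq_of_mul_eq_mul_left (by (clear * - hc h5; positivity)) h6

/-- **The row `²F₄(q)`.** -/
theorem rowInt_tf4 (hm : 1 ≤ m) (hK : Fintype.card K = 2 ^ (2 * m + 1)) {p : ℕ} [hp : Fact p.Prime] (hp2 : p ≠ 2)
    (hd : p ∣ Nat.card ↥(twistedF4 K (2 ^ m))) : RowInt p ↥(twistedF4 K (2 ^ m)) := by
  have h2 : Fact (Nat.Prime 2) := ⟨Nat.prime_two⟩
  obtain ⟨P, UE, s, t, V, V', hsp, hS, -, hV, hV', hcV, hcV', hcU, hcT⟩ :=
    Cfsg.Agent.H69.OctTwF.exists_pair hm hK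
  have hs : s ∈ P.S := by rw [hS]; exact Or.inl rfl
  have ht : t ∈ P.S := by rw [hS]; exact Or.inr rfl
  have hG := Cfsg.Agent.S1068.result hK
  set q := 2 ^ (2 * m + 1) with hq
  have hq2 : 2 ≤ q := by rw [hq, pow_succ]; have := Nat.one_le_two_pow (n := 2 * m); omega
  have hB : Nat.card P.B = q ^ 12 * (q - 1) ^ 2 := by rw [card_B hsp, hcU, hcT]
  have h2q : 2 ∣ q := dvd_pow_self 2 (by omega)
  refine rowInt_of_split hsp ⟨s, hs⟩ hp2 ?_
  intro M hBM hM
  by_cases hpq : p ∣ q - 1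
  · right
    have hchar : CharP K 2 := Cfsg.Agent.ChevalleyStructure.TwF4.Twisted.charP_two hK
    obtain ⟨φ, hφ⟩ := exists_rln hK
    obtain ⟨S, hSR⟩ : ∃ S : Full φ ↥(twistedF4 K (2 ^ m)), S.R.p = 2 := ⟨full hK hφ, rfl⟩
    -- an element of order `p`
    obtain ⟨c, hc⟩ : ∃ c : Kˣ, orderOf c = p := by
      apply exists_prime_orderOf_dvd_card' p
      rw [Nat.card_units, Nat.card_eq_fintype_card, hK]
      exact hpq
    have hcp : c ^ p = 1 := by rw [← hc]; exact pow_orderOf_eq_one c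
    have hc1 : c ≠ 1 := by
      rintro rfl
      rw [orderOf_one] at hc
      exact hp.out.one_lt.ne hc
    have hcent := cent_TQ S hSR hp2 hcp hc1
    obtain ⟨I, _, _, Q', -, -, -, -, -, hsyl⟩ := exists_st hsp
    obtain ⟨R, hR⟩ := Cfsg.Agent.KFacts.TwF4.SylU.exists_sylow S ⟨c, hc1⟩ hSR
    obtain ⟨x, hx⟩ := hsyl R
    rw [hR] at hx
    -- `T ≤ x B x⁻¹`
    have hTB : S.T ≤ P.B.map (MulAut.conj x).toMonoidHom := by
      have h3 : P.B.map (MulAut.conj x).toMonoidHom =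
          Subgroup.normalizer (J S.XZ 1 8 : Set ↥(twistedF4 K (2 ^ m))) := by
        rw [hx, ← hsp.normalizer_eq]
        exact Subgroup.map_equiv_normalizer_eq UE (MulAut.conj x)
      rw [h3]
      intro g hg
      rw [Subgroup.mem_normalizer_iff]
      intro y
      refine ⟨fun hy => S.T_conj_J hg hy, fun hy => ?_⟩
      have h4 := S.T_conj_J (inv_mem hg) hy
      have e : g⁻¹ * (g * y * g⁻¹) * g⁻¹⁻¹ = y := by group
      rwa [e] at h4
    have hTB' : ∀ g ∈ S.T, x⁻¹ * g * x ∈ P.B := by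
      intro g hg
      obtain ⟨b, hb, hbg⟩ := hTB hg
      have e : x⁻¹ * g * x = b := by
        rw [← hbg]
        show x⁻¹ * (x * b * x⁻¹) * x = b
        group
      rw [e]; exact hb
    have hQ : IsPGroup p ((TQ S p).map (MulAut.conj x⁻¹).toMonoidHom) := (TQ_p S p).map _
    refine reg_modEq_of_le hQ ?_ ?_
    · rintro _ ⟨g, hg, rfl⟩
      apply hBM
      have h4 := hTB' g (TQ_le S p hg)
      show x⁻¹ * g * x⁻¹⁻¹ ∈ P.B
      rwa [inv_inv]
    · intro g hg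
      apply hBM
      have h4 : x * g * x⁻¹ ∈ S.T := by
        apply hcent
        rw [Subgroup.mem_centralizer_iff] at hg ⊢
        intro y hy
        have h5 := hg (x⁻¹ * y * x) ⟨y, hy, by show x⁻¹ * y * x⁻¹⁻¹ = _; rw [inv_inv]⟩
        calc y * (x * g * x⁻¹) = x * ((x⁻¹ * y * x) * g) * x⁻¹ := by group
          _ = x * (g * (x⁻¹ * y * x)) * x⁻¹ := by rw [h5]
          _ = x * g * x⁻¹ * y := by group
      have h5 := hTB' _ h4
      have e : x⁻¹ * (x * g * x⁻¹) * x = g := by group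
      rwa [e] at h5
  · left
    have hpp := hp.out
    have hp2' : ¬ p ∣ 2 := fun h => hp2 ((Nat.prime_dvd_prime_iff_eq hpp Nat.prime_two).1 h)
    have hpq' : ¬ p ∣ q := fun h => hp2' (hpp.dvd_of_dvd_pow h)
    -- `p` divides `(q³ + 1)(q⁶ + 1)`
    have h36 : p ∣ (q ^ 3 + 1) ∨ p ∣ (q ^ 6 + 1) := by
      rw [hG] at hd
      rcases (hpp.dvd_mul).1 hd with h | h
      · rcases (hpp.dvd_mul).1 h with h | h
        · rcases (hpp.dvd_mul).1 h with h | h
          · rcases (hpp.dvd_mul).1 h with h | h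
            · exact (hpq' (hpp.dvd_of_dvd_pow h)).elim
            · exact (hpq h).elim
          · exact Or.inl h
        · have h4 : q ^ 4 - 1 = (q - 1) * ((q + 1) * (q ^ 2 + 1)) := by
            obtain ⟨k, hk⟩ : ∃ k, q = k + 1 := ⟨q - 1, by (clear * - hq2; omega)⟩
            rw [hk]
            have : 1 ≤ (k + 1) ^ 4 := Nat.one_le_pow _ _ (by omega)
            zify [this]
            push_cast
            ring
          rw [h4] at h
          rcases (hpp.dvd_mul).1 h with h | h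
          · exact (hpq h).elim
          · rcases (hpp.dvd_mul).1 h with h | h
            · left
              have e : q ^ 3 + 1 = (q + 1) * (q ^ 2 + 1 - q) := by
                have : q ≤ q ^ 2 + 1 := by nlinarith only []
                zify [this]
                ring
              rw [e]; exact Dvd.dvd.mul_right h _
            · right
              have e : q ^ 6 + 1 = (q ^ 2 + 1) * (q ^ 4 + 1 - q ^ 2) := by
                have : q ^ 2 ≤ q ^ 4 + 1 :=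
                  (Nat.pow_le_pow_right (by omega) (by norm_num)).trans (Nat.le_succ _)
                zify [this]
                ring
              rw [e]; exact Dvd.dvd.mul_right h _
      · exact Or.inr h
    have key : ∀ {w : ↥(twistedF4 K (2 ^ m))} {V : Subgroup ↥(twistedF4 K (2 ^ m))} {x y : ℕ}, w ∈ P.S →
        Schreier.BNSch.Node P UE w V → V.relIndex UE = x → (x + 1) * (y + 1) = (q + 1) * (q ^ 2 + 1) →
        M ≤ P.parabolic {w} → p ∣ M.index := by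
      intro w V x y hw hVw hx hxy hle
      have h5 := card_par hsp hw hVw
      have h6 := Subgroup.card_mul_index (P.parabolic {w})
      rw [h5, hB, hx, hG] at h6
      have h7 := arith_idx hq2 (c := q ^ 12) (by positivity) (i := (P.parabolic {w}).index) (x := x) (y := y)
        (by rw [h6]) hxy
      refine Dvd.dvd.trans ?_ (Subgroup.index_dvd_of_le hle)
      rw [h7]
      rcases h36 with h | h
      · exact Dvd.dvd.mul_right (Dvd.dvd.mul_right h _) _
      · exact Dvd.dvd.mul_left h _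
    rcases le_par hS hBM hM with h | h
    · exact key hs hV hcV (y := q ^ 2) (by ring) h
    · exact key ht hV' hcV' (y := q) (by ring) h

/-- the integer valued row along an isomorphism -/
theorem RowInt.congr' {p : ℕ} {S : Type*} [Group S] [Finite S] {T : Type*} [Group T] (e : S ≃* T)
    (h : RowInt p T) : RowInt p S := by
  intro M hM
  obtain ⟨θ, h1, h2, h3, h4, h5⟩ := h M hM
  refine ⟨⟨_, Cfsg.Agent.Characters.Core.isIrr_comp (e : S →* T) e.surjective θ.2⟩, Cfsg.Agent.H493.RatB.mem_principalBlock_comp e h1,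
    fun h6 => h2 (by
      funext y
      obtain ⟨x, rfl⟩ := e.surjective y
      exact congrFun h6 x), ?_, fun g => h4 (e g), fun a x => ?_⟩
  · show ¬ p ∣ charDegree (fun x : S => (θ : T → ℂ) (e x))
    rw [Cfsg.Agent.Blocks.Basic.charDegree_def]
    rw [Cfsg.Agent.Blocks.Basic.charDegree_def] at h3
    rwa [map_one]
  · show (θ : T → ℂ) (e (a x)) = (θ : T → ℂ) (e x)
    have h6 := h5 ((e.symm.trans a).trans e) (e x)
    have h7 : ((e.symm.trans a).trans e) (e x) = e (a x) := by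
      show e (a (e.symm (e x))) = _
      rw [e.symm_apply_apply]
    rwa [h7] at h6

/-- the row `²F₄(q)`, cyclic Sylow subgroups included -/
theorem rowInt_iso {S : Type*} [Group S] (h : Lie.Iso2F4 S) {p : ℕ} [hp : Fact p.Prime] (hp2 : p ≠ 2)
    (hd : p ∣ Nat.card S) : RowInt p S := by
  obtain ⟨m, K, _, _, hm, hK, ⟨e⟩⟩ := h
  have : Finite S := Finite.of_equiv _ e.toEquiv.symm
  rw [Nat.card_congr e.toEquiv] at hd
  exact RowInt.congr' e (rowInt_tf4 hm hK hp2 hd)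

/-- **the row `tf4`** (no hypothesis on the Sylow subgroups) -/
theorem rowForZ_tf4 {p : ℕ} [hp : Fact p.Prime] (hp2 : p ≠ 2) : RowForZ p (fun X _ => Lie.Iso2F4 X) :=
  fun _ _ _ _ _ hd h => Cfsg.Agent.H145.BR.RowInt.rowZ (rowInt_iso h hp2 hd)

/-- **the row `tf4`** -/
theorem row_tf4 {p : ℕ} [hp : Fact p.Prime] (hp2 : p ≠ 2) : RowForT p (fun X _ => Lie.Iso2F4 X) :=
  Cfsg.Agent.H145.BR.RowForZ.rowForT (rowForZ_tf4 hp2)

end main

end Cfsg.Agent.H978.BR
end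

-- part: H315/CY/TwFRow
section
set_option linter.all false
open scoped Cfsg.Agent.FastGrp

-- part: H315/CY/TwFPair
section
/-!
# S4829: the row `²F₄(q)` (helper315)

The Steinberg character of `A` is a witness for every odd prime.
-/

set_option autoImplicit false
set_option linter.unusedSectionVars false

namespace Cfsg.Agent.H315.CY

section pair

open Cfsg.Lie
open Cfsg.Agent.ChevalleyStructure.TwF4.Tables
open Cfsg.Agent.ChevalleyStructure.TwF4.Rel
open Cfsg.Agent.ChevalleyStructure.TwF4.Groups Cfsg.Agent.ChevalleyStructure.TwF4.RankOne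
open Cfsg.Agent.ChevalleyStructure.TwF4.Twisted Cfsg.Agent.ChevalleyStructure.TwF4.TwistedFix
open Cfsg.Agent.ChevalleyStructure.TwF4.BN
open Cfsg.Agent.ChevalleyStructure.TwF4.Torus (T chi T_conj_X T_inr chi_def)
open Cfsg.Agent.ChevalleyStructure.F4NTab (ca)
open Cfsg.Agent.ChevalleyStructure.TwF4.TwGen (tc tc_mul chi_tc_24 chi_tc_25 chi_tc_33 chi_tc_27 chi28 chi30 pow_all
  n1_eq n2_eq n1_conj_T n2_conj_T)
open Cfsg.Agent.ChevalleyStructure.TwF4.TorusFix (mem_iff pow_unit T_rt rt)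
open Cfsg.Agent.ChevalleyStructure.TwF4.Fix (Fix)
open Cfsg.Agent.ChevalleyStructure.TwF4.OrderCls (X_inj)
open Cfsg.Agent.Schreier.TwFFour Cfsg.Agent.Schreier.BNSch
open Cfsg.Agent.Octagon.KSys Cfsg.Agent.Octagon.KPar Cfsg.Agent.Octagon.KRoot Cfsg.Agent.Octagon.Pkg
open Cfsg.Agent.ParSys.Fam.TwoFFour Cfsg.Agent.FixBN
open Cfsg.Agent.H69.OctTwF

variable {K : Type*} [Field K] [Fintype K] [CharP K 2] {φ : K →+* K}

/-- the split (B,N)-pair of `²F₄(q)`, explicit form -/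
theorem exists_pairE {m : ℕ} (hm : 1 ≤ m) (hK : Fintype.card K = 2 ^ (2 * m + 1)) (hφ : Rln φ (2 ^ m)) :
    ∃ (Q : Cfsg.BNPair ↥(twistedF4 K (2 ^ m))), FixBN.Split Q 2 (U0 K (2 ^ m)) ∧
      Q.S = {m1 K (2 ^ m), m2 hφ} ∧ Node Q (U0 K (2 ^ m)) (m1 K (2 ^ m)) (V1 K (2 ^ m)) ∧
      Node Q (U0 K (2 ^ m)) (m2 hφ) (V8 K (2 ^ m)) ∧ (V1 K (2 ^ m)).relIndex (U0 K (2 ^ m)) = 2 ^ (2 * m + 1) ∧
      (V8 K (2 ^ m)).relIndex (U0 K (2 ^ m)) = (2 ^ (2 * m + 1)) ^ 2 ∧ Nat.card (U0 K (2 ^ m)) = (2 ^ (2 * m + 1)) ^ 12 ∧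
      Nat.card ↥(Q.B ⊓ Q.N) = (2 ^ (2 * m + 1) - 1) ^ 2 := by
  have : Fact (Nat.Prime 2) := ⟨Nat.prime_two⟩
  obtain ⟨P, hPB, hPN, -, hPS⟩ := Cfsg.Agent.ChevalleyStructure.TwF4.BNIrred.exists_bnPair_irreducible hφ
  have hB : P.B = B0 K (2 ^ m) := hPB
  have hdec := dec hK hφ
  have hUp := isPGroup_U0 hK
  set s1 : ↥(twistedF4 K (2 ^ m)) := m1 K (2 ^ m) with hs1
  set s2 : ↥(twistedF4 K (2 ^ m)) := m2 hφ with hs2
  have node_1 : Cfsg.Agent.Schreier.BNSch.Node P (U0 K (2 ^ m)) s1 (V1 K (2 ^ m)) := node1 hφ hB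
  have node_2 : Cfsg.Agent.Schreier.BNSch.Node P (U0 K (2 ^ m)) s2 (V8 K (2 ^ m)) := node2 hφ hB
  have hdB : ∀ b ∈ P.B, ∃ s t : Kˣ, ∃ u ∈ U0 K (2 ^ m), b = u * tt hdec s t := by
    intro b hb
    rw [hB] at hb
    obtain ⟨s, t, u, hu, hbu⟩ := hdec.1 b hb
    exact ⟨s, t, u, hu, Subtype.ext hbu⟩
  have httB : ∀ s t : Kˣ, tt hdec s t ∈ P.B := fun s t => by rw [hB]; exact tt_B0 hdec s t
  have httN : ∀ s t : Kˣ, tt hdec s t ∈ P.N := fun s t => by
    rw [hPN]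
    exact Cfsg.Agent.ChevalleyStructure.TwF4.NStruct.T_mem_N _
  have hH : ∀ h ∈ P.B, h ∈ P.N → ∃ s t : Kˣ, h = tt hdec s t := by
    intro h hh hN
    rw [hPB, Subgroup.mem_subgroupOf] at hh
    rw [hPN, Subgroup.mem_subgroupOf] at hN
    have h1 := borel_inf_N ⟨hh, hN⟩
    obtain ⟨s, t, hst⟩ := (mem_iff hK (h : GL chevF4.Idx K)).1 ⟨h1, h.2⟩
    exact ⟨s, t, Subtype.ext hst⟩
  have hUB : U0 K (2 ^ m) ≤ P.B := by rw [hB]; exact U0_le_B0
  have hnorm : ∀ b ∈ P.B, ∀ u ∈ U0 K (2 ^ m), b * u * b⁻¹ ∈ U0 K (2 ^ m) := fun b hb u hu => by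
    rw [hB] at hb
    exact conj_U0 hb hu
  have hsplit : FixBN.Split P 2 (U0 K (2 ^ m)) :=
    { le := hUB
      norm := hnorm
      isP := hUp
      cover := fun b hb => by
        obtain ⟨s, t, u, hu, rfl⟩ := hdB b hb
        refine ⟨u, hu, ?_⟩
        rw [inv_mul_cancel_left]
        exact httN s t
      tor := ⟨2 ^ (2 * m + 1) - 1, by
        have h1 : 2 ∣ 2 ^ (2 * m + 1) := dvd_pow_self 2 (by omega)
        have h2 : 0 < 2 ^ (2 * m + 1) := by positivity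
        omega, fun h hh hN => by
        obtain ⟨s, t, rfl⟩ := hH h hh hN
        apply Subtype.ext
        show T (tc (2 ^ m) s t) ^ (2 ^ (2 * m + 1) - 1) = 1
        rw [← map_pow]
        have h2 : tc (2 ^ m) s t ^ (2 ^ (2 * m + 1) - 1) = 1 := by
          have h3 : ∀ x : Kˣ, x ^ (2 ^ (2 * m + 1) - 1) = 1 := by
            intro x
            have h4 := pow_card_eq_one' (x := x)
            rwa [Nat.card_units, Nat.card_eq_fintype_card, hK] at h4
          funext l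
          rw [Pi.pow_apply, h3]; rfl
        rw [h2, map_one]⟩
      node := by
        intro s hs
        rw [hPS] at hs
        rcases hs with rfl | hs
        · exact ⟨_, node_1⟩
        · rw [Set.mem_singleton_iff] at hs
          subst hs
          exact ⟨_, node_2⟩
      core := by
        obtain ⟨hsimp, -⟩ := Cfsg.Agent.S1072.result hm hK
        rcases hsimp.eq_bot_or_eq_top_of_normal P.B.normalCore inferInstance with h | h
        · exact h
        · exfalso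
          have h1 : P.B = ⊤ := by
            rw [eq_top_iff, ← h]
            exact Subgroup.normalCore_le _
          obtain ⟨u, hu, huV⟩ := node_1.ne
          exact huV (node_1.stab u hu (by rw [h1]; exact Subgroup.mem_top _)) }
  have h3 : P.B ⊓ P.N = (chevF4.diagonalSubgroup K ⊓ twistedF4 K (2 ^ m)).subgroupOf (twistedF4 K (2 ^ m)) := by
    rw [hPB, hPN, Subgroup.inf_subgroupOf_right]
    apply le_antisymm
    · rintro x ⟨hx1, hx2⟩
      exact borel_inf_N ⟨hx1, hx2⟩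
    · intro x hx
      have h4 : (x : GL chevF4.Idx K) ∈ chevF4.diagonalSubgroup K := hx
      exact ⟨(le_sup_right : _ ≤ chevF4.posUnipotent K ⊔ chevF4.diagonalSubgroup K) h4,
        (le_sup_left : chevF4.diagonalSubgroup K ≤ chevF4.monomialSubgroup K) h4⟩
  refine ⟨P, hsplit, hPS, node_1, node_2, ?_, ?_, ?_, ?_⟩
  · rw [relIndex_V1 hφ, Nat.card_eq_fintype_card, hK]
  · rw [relIndex_V8 hφ, Nat.card_eq_fintype_card, hK]
  · rw [← Cfsg.Agent.S1090.result hK]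
    have h2 : (U0 K (2 ^ m)).map (twistedF4 K (2 ^ m)).subtype = chevF4.posUnipotent K ⊓ twistedF4 K (2 ^ m) := by
      rw [U0, Subgroup.subgroupOf_map_subtype, posUnipotent_eq]
    rw [← h2]
    exact Nat.card_congr ((U0 K (2 ^ m)).equivMapOfInjective _ (Subgroup.subtype_injective _)).toEquiv
  · rw [h3, ← Cfsg.Agent.S1110.result hK]
    exact Nat.card_congr (Subgroup.subgroupOfEquivOfLe inf_le_right).toEquiv


end pair

end Cfsg.Agent.H315.CY
end

-- part: H315/CY/TwF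
section
/-!
# S4829: the row `²F₄(q)` (helper315)

The Steinberg character of `A` is a witness for every odd prime.
-/

set_option autoImplicit false
set_option linter.unusedSectionVars false

open Cfsg Cfsg.Lie

namespace Cfsg.Agent.H315.CY

open Cfsg.Agent.KFacts.TwF4 Cfsg.Agent.KFacts.TwF4.AutTau
open Cfsg.Agent.SplitTwo Cfsg.Agent.SplitTwo.ZS Cfsg.Agent.TitsThree.RankTwoZ Cfsg.Agent.TitsThree.RankTwoRGD
open Cfsg.Agent.SplitTwo.RootSysZ Cfsg.Agent.H978.BR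

section full

variable {F : Type*} [Field F] {σ : F →+* F} {G : Type*} [Group G] (S : Full σ G)

theorem TQ_conj {p : ℕ} {n : G} (hn : ∀ t ∈ S.T, n * t * n⁻¹ ∈ S.T) {q : G} (hq : q ∈ TQ S p) : n * q * n⁻¹ ∈ TQ S p := by
  obtain ⟨c, d, hc, hd, rfl⟩ := hq
  have h1 : S.h c d ∈ S.T := S.mem_T.2 ⟨c, d, rfl⟩
  obtain ⟨c', d', h2⟩ := S.mem_T.1 (hn _ h1)
  have h3 : (n * S.h c d * n⁻¹) ^ p = 1 := by
    rw [conj_pow, h_pow, hc, hd, S.h_one, mul_one, mul_inv_cancel]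
  rw [← h2, h_pow, ← S.h_one] at h3
  obtain ⟨h4, h5⟩ := S.h_inj _ _ _ _ h3
  exact ⟨c', d', h4, h5, h2⟩

theorem dih_T {w : G} (hw : S.IsDihE w) {t : G} (ht : t ∈ S.T) : w * t * w⁻¹ ∈ S.T := by
  rw [S.T_iff] at ht ⊢
  obtain ⟨b, hw | hw⟩ := hw
  · have hi := hw.inv (g := fun k => -((2 * b : ℤ) : ZMod (2 * 8)) + k) (fun k => by ring)
    refine ((hw.mul ht).mul hi).congr fun k => ?_
    show ((2 * b : ℤ) : ZMod (2 * 8)) + (-((2 * b : ℤ) : ZMod (2 * 8)) + k) = k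
    ring
  · have hi := hw.inv (g := fun k => ((2 * b : ℤ) : ZMod (2 * 8)) - k) (fun k => by ring)
    refine ((hw.mul ht).mul hi).congr fun k => ?_
    show ((2 * b : ℤ) : ZMod (2 * 8)) - (((2 * b : ℤ) : ZMod (2 * 8)) - k) = k
    ring

theorem dih_T' {w : G} (hw : S.IsDihE w) {t : G} (ht : t ∈ S.T) : w⁻¹ * t * w ∈ S.T := by
  rw [S.T_iff] at ht ⊢
  obtain ⟨b, hw | hw⟩ := hw
  · have hi := hw.inv (g := fun k => -((2 * b : ℤ) : ZMod (2 * 8)) + k) (fun k => by ring)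
    refine ((hi.mul ht).mul hw).congr fun k => ?_
    show -((2 * b : ℤ) : ZMod (2 * 8)) + (((2 * b : ℤ) : ZMod (2 * 8)) + k) = k
    ring
  · have hi := hw.inv (g := fun k => ((2 * b : ℤ) : ZMod (2 * 8)) - k) (fun k => by ring)
    refine ((hi.mul ht).mul hw).congr fun k => ?_
    show ((2 * b : ℤ) : ZMod (2 * 8)) - (((2 * b : ℤ) : ZMod (2 * 8)) - k) = k
    ring

theorem n1_dih : S.IsDihE S.n1 := ⟨5, Or.inr (S.n1_maps.congr fun k => rfl)⟩
theorem n2_dih : S.IsDihE S.n2 := ⟨4, Or.inr (S.n2_maps.congr fun k => rfl)⟩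

variable [Finite F] [Finite G]

/-- the overgroup `U T` -/
def UT : Subgroup G where
  carrier := {g | ∃ u ∈ J S.XZ 1 8, ∃ t ∈ S.T, g = u * t}
  one_mem' := ⟨1, one_mem _, 1, one_mem _, by group⟩
  mul_mem' := by
    rintro _ _ ⟨v, hv, s, hs, rfl⟩ ⟨v', hv', s', hs', rfl⟩
    exact ⟨v * (s * v' * s⁻¹), mul_mem hv (S.T_conj_J hs hv'), s * s', mul_mem hs hs', by group⟩
  inv_mem' := by
    rintro _ ⟨v, hv, s, hs, rfl⟩
    refine ⟨s⁻¹ * v⁻¹ * s, ?_, s⁻¹, inv_mem hs, by group⟩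
    have h1 := S.T_conj_J (inv_mem hs) (inv_mem hv)
    rwa [inv_inv] at h1

theorem U_le_UT : J S.XZ 1 8 ≤ UT S := fun v hv => ⟨v, hv, 1, one_mem _, by group⟩
theorem T_le_UT : S.T ≤ UT S := fun t ht => ⟨1, one_mem _, t, ht, by group⟩

theorem mem_UT_iff (hF : ∃ c : Fˣ, c ≠ 1) (hR : S.R.p = 2) {g : G} :
    g ∈ UT S ↔ ∀ x, x ∈ J S.XZ 1 8 ↔ g * x * g⁻¹ ∈ J S.XZ 1 8 := by
  constructor
  · rintro ⟨u, hu, t, ht, rfl⟩ x
    constructor
    · intro hx
      have e : u * t * x * (u * t)⁻¹ = u * (t * x * t⁻¹) * u⁻¹ := by group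
      rw [e]
      exact mul_mem (mul_mem hu (S.T_conj_J ht hx)) (inv_mem hu)
    · intro hx
      have h1 : t * x * t⁻¹ ∈ J S.XZ 1 8 := by
        have e : t * x * t⁻¹ = u⁻¹ * (u * t * x * (u * t)⁻¹) * u := by group
        rw [e]
        exact mul_mem (mul_mem (inv_mem hu) hx) hu
      have h2 := S.T_conj_J (inv_mem ht) h1
      have e : t⁻¹ * (t * x * t⁻¹) * t⁻¹⁻¹ = x := by group
      rwa [e] at h2
  · intro h
    exact SylU.norm_U S hF hR h

variable {p : ℕ} [hpp : Fact p.Prime] {c : Fˣ}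

/-- a chamber fixed by `Q` lies in the apartment -/
theorem exists_dih (hR : S.R.p = 2) (hp2 : p ≠ 2) (hc : c ^ p = 1) (hc1 : c ≠ 1) {g : G}
    (hg : ∀ q ∈ TQ S p, g⁻¹ * q * g ∈ UT S) : ∃ w, (∀ t ∈ S.T, w * t * w⁻¹ ∈ S.T) ∧ (∀ t ∈ S.T, w⁻¹ * t * w ∈ S.T) ∧
      w⁻¹ * g ∈ UT S := by
  have : Fact (Nat.Prime 2) := ⟨Nat.prime_two⟩
  obtain ⟨b, hb, t, ht, w, hw, b', hb', e⟩ := S.bruhatE g
  have h1 : ∀ s ∈ S.T, (t * w) * s * (t * w)⁻¹ ∈ S.T := by
    intro s hs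
    have e1 : (t * w) * s * (t * w)⁻¹ = t * (w * s * w⁻¹) * t⁻¹ := by group
    rw [e1]
    exact mul_mem (mul_mem ht (dih_T S hw hs)) (inv_mem ht)
  have h2 : ∀ s ∈ S.T, (t * w)⁻¹ * s * (t * w) ∈ S.T := by
    intro s hs
    have e1 : (t * w)⁻¹ * s * (t * w) = w⁻¹ * (t⁻¹ * s * t) * w := by group
    rw [e1]
    exact dih_T' S hw (mul_mem (mul_mem (inv_mem ht) hs) ht)
  refine ⟨t * w, h1, h2, ?_⟩
  have h3 := fix_core (r := 2) (U := J S.XZ 1 8) (T := S.T) (B := UT S)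
    (Cfsg.Agent.KFacts.TwF4.Perf.two_J S hR (by norm_num)) (U_le_UT S) (T_le_UT S)
    (fun t ht u hu => S.T_conj_J ht hu) hp2 (TQ_p S p) (TQ_le S p) (fun u hu h => CU S hc hc1 hu h) h2 hb (by
      intro q hq
      have h4 := hg q hq
      have e2 : (b * (t * w))⁻¹ * q * (b * (t * w)) = b' * (g⁻¹ * q * g) * b'⁻¹ := by rw [e]; group
      rw [e2]
      exact mul_mem (mul_mem (U_le_UT S hb') h4) (inv_mem (U_le_UT S hb')))
  have e3 : (t * w)⁻¹ * g = ((t * w)⁻¹ * b * (t * w)) * b' := by rw [e]; group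
  rw [e3]
  exact mul_mem h3 (U_le_UT S hb')

/-- an element of `U T` normalizing `T` lies in `T` -/
theorem mem_T_of_norm (hc : c ^ p = 1) (hc1 : c ≠ 1) {b : G} (hb : b ∈ UT S) (hn : ∀ t ∈ S.T, b * t * b⁻¹ ∈ S.T) :
    b ∈ S.T := by
  obtain ⟨u, hu, t, ht, rfl⟩ := hb
  have h1 : u = 1 := by
    refine CU S hc hc1 hu fun q hq => ?_
    have hqT := TQ_le S p hq
    have h2 : u * q * u⁻¹ ∈ S.T := by
      have h3 := hn _ (mul_mem (mul_mem (inv_mem ht) hqT) ht)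
      have e : u * t * (t⁻¹ * q * t) * (u * t)⁻¹ = u * q * u⁻¹ := by group
      rwa [e] at h3
    have h3 : u * (q * u⁻¹ * q⁻¹) ∈ J S.XZ 1 8 := mul_mem hu (S.T_conj_J hqT (inv_mem hu))
    have h4 : u * (q * u⁻¹ * q⁻¹) ∈ S.T := by
      have e : u * (q * u⁻¹ * q⁻¹) = (u * q * u⁻¹) * q⁻¹ := by group
      rw [e]; exact mul_mem h2 (inv_mem hqT)
    have h5 := S.U_inf_T h4 h3
    have h6 : u * q * u⁻¹ = q := by
      have e : u * (q * u⁻¹ * q⁻¹) = (u * q * u⁻¹) * q⁻¹ := by group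
      rw [e] at h5
      exact mul_inv_eq_one.1 h5
    calc q * u = (u * q * u⁻¹) * u := by rw [h6]
      _ = u * q := by group
  rw [h1, one_mul]
  exact ht

/-- a subgroup mapped into itself by an automorphism -/
theorem mem_iff_of_le {α : MulAut G} {X : Subgroup G} (h : ∀ x ∈ X, α x ∈ X) (x : G) : α x ∈ X ↔ x ∈ X := by
  refine ⟨fun hx => ?_, h x⟩
  have hm : X.map α.toMonoidHom = X := by
    refine Subgroup.eq_of_le_of_card_ge ?_ (le_of_eq ?_)
    · rintro _ ⟨y, hy, rfl⟩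
      exact h y hy
    · exact Nat.card_congr (X.equivMapOfInjective α.toMonoidHom α.injective).toEquiv
  rw [← hm] at hx
  obtain ⟨y, hy, hyx⟩ := hx
  have : y = x := α.injective hyx
  rwa [← this]

/-- an automorphism centralizing `Q` does not exchange the two fixed chambers of a panel -/
theorem panel {P : Cfsg.BNPair G} (hPB : P.B = UT S) (hF : ∃ c : Fˣ, c ≠ 1) (hR : S.R.p = 2) (hp2 : p ≠ 2) (hc : c ^ p = 1)
    (hc1 : c ≠ 1) {a : MulAut G} (ha : ∀ q ∈ TQ S p, a q = q) {s : G} (hs : s = S.n1 ∨ s = S.n2) {k : G}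
    (hk : Sel P a k) {u b : G} (hu : u ∈ J S.XZ 1 8) (hb : b ∈ UT S) (hks : k = u * s * b) : False := by
  have : Fact (Nat.Prime 2) := ⟨Nat.prime_two⟩
  obtain ⟨k', τ, ho, he⟩ := AutNorm.aut_form S hF hR a
  set β : MulAut G := MulAut.conj k'⁻¹ * a with hβdef
  have hβ : ∀ x, β x = k'⁻¹ * a x * k' := fun x => by
    show k'⁻¹ * a x * k'⁻¹⁻¹ = _
    rw [inv_inv]
  have hax : ∀ x, a x = k' * β x * k'⁻¹ := fun x => by rw [hβ]; group
  have hX0 : ∀ j : ℤ, ∀ x ∈ S.XZ j, β x ∈ S.XZ j := by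
    intro j x hx
    obtain ⟨m, rfl | rfl⟩ := Int.even_or_odd' j
    · obtain ⟨p, u, rfl⟩ := (S.mem_XZ_even m x).1 hx
      rw [S.mem_XZ_even]
      refine ⟨τ p, τ u, ?_⟩
      rw [hβ, he]; group
    · obtain ⟨t, rfl⟩ := (S.mem_XZ_odd m x).1 hx
      rw [S.mem_XZ_odd]
      refine ⟨τ t, ?_⟩
      rw [hβ, ho]; group
  have hX : ∀ j : ℤ, ∀ x, β x ∈ S.XZ j ↔ x ∈ S.XZ j := fun j x => mem_iff_of_le (hX0 j) x
  have hU : ∀ x, β x ∈ J S.XZ 1 8 ↔ x ∈ J S.XZ 1 8 := by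
    refine mem_iff_of_le ?_
    have h1 : J S.XZ 1 8 ≤ (J S.XZ 1 8).comap β.toMonoidHom :=
      J_le fun j h1 h2 y hy => mem_J (hX0 j y hy) h1 h2
    exact fun x hx => h1 hx
  have hUT : ∀ x, β x ∈ UT S ↔ x ∈ UT S := by
    intro x
    rw [mem_UT_iff S hF hR, mem_UT_iff S hF hR]
    constructor
    · intro h y
      have h1 := h (β y)
      rw [hU, ← map_mul, ← map_inv, ← map_mul, hU] at h1
      exact h1
    · intro h y
      obtain ⟨z, rfl⟩ := β.surjective y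
      rw [hU, ← map_mul, ← map_inv, ← map_mul, hU]
      exact h z
  have hk' : Sel P a k' := by
    intro x
    rw [← hβ, hPB]
    exact hUT x
  have hkk := hk.unique hk'
  rw [hPB] at hkk
  -- the torus
  have hT0 : ∀ t ∈ S.T, a t ∈ S.T := by
    intro t ht
    apply cent_TQ S hR hp2 hc hc1
    rw [Subgroup.mem_centralizer_iff]
    intro q hq
    have h1 : q * t = t * q := S.T_comm (TQ_le S p hq) ht
    calc q * a t = a q * a t := by rw [ha q hq]
      _ = a (t * q) := by rw [← map_mul, h1]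
      _ = a t * q := by rw [map_mul, ha q hq]
  have hβT : ∀ t, β t ∈ S.T ↔ t ∈ S.T := by
    refine mem_iff_of_le ?_
    intro t ht
    have hint : ∀ (j : ℤ) (x : G), x ∈ S.XZ j ↔ β t * x * (β t)⁻¹ ∈ S.XZ j := by
      intro j x
      obtain ⟨y, rfl⟩ := β.surjective x
      rw [hX, ← map_mul, ← map_inv, ← map_mul, hX]
      have h1 := S.T_iff.1 ht (j : ZMod (2 * 8)) y
      exact h1.symm
    rw [S.T_iff]
    intro j x
    have hj : ((j.val : ℤ) : ZMod (2 * 8)) = j := by rw [Int.cast_natCast]; exact ZMod.natCast_zmod_val _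
    have h1 := hint (j.val : ℤ) x
    have h8 : ∀ y, y ∈ S.XZ (j.val : ℤ) ↔ y ∈ S.R.X j := by intro y; show y ∈ S.R.X _ ↔ _; rw [hj]
    rw [h8, h8] at h1
    exact h1.symm
  have hkT : ∀ t ∈ S.T, k' * t * k'⁻¹ ∈ S.T := by
    intro t ht
    obtain ⟨t0, rfl⟩ := β.surjective t
    rw [← hax]
    exact hT0 _ ((hβT _).1 ht)
  have hkT' : ∀ t, k' * t * k'⁻¹ ∈ S.T ↔ t ∈ S.T := fun t =>
    mem_iff_of_le (α := MulAut.conj k') (fun t ht => hkT t ht) t
  -- `k' = s b₃`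
  obtain ⟨b', hb', hkb⟩ : ∃ b' ∈ UT S, k' = u * s * b' :=
    ⟨b * (k⁻¹ * k'), mul_mem hb hkk, by rw [hks]; group⟩
  have hsd : S.IsDihE s := by
    rcases hs with rfl | rfl
    · exact n1_dih S
    · exact n2_dih S
  have h3 := fix_core (r := 2) (U := J S.XZ 1 8) (T := S.T) (B := UT S)
    (Cfsg.Agent.KFacts.TwF4.Perf.two_J S hR (by norm_num)) (U_le_UT S) (T_le_UT S)
    (fun t ht u hu => S.T_conj_J ht hu) hp2 (TQ_p S p) (TQ_le S p) (fun u hu h => CU S hc hc1 hu h)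
    (n₀ := s) (fun t ht => dih_T' S hsd ht) hu (by
      intro q hq
      have h4 : k'⁻¹ * q * k' ∈ S.T := by
        rw [← hkT']
        have e : k' * (k'⁻¹ * q * k') * k'⁻¹ = q := by group
        rw [e]; exact TQ_le S p hq
      have e2 : (u * s)⁻¹ * q * (u * s) = b' * (k'⁻¹ * q * k') * b'⁻¹ := by rw [hkb]; group
      rw [e2]
      exact mul_mem (mul_mem hb' (T_le_UT S h4)) (inv_mem hb'))
  set b₃ := s⁻¹ * u * s * b' with hb₃
  have hb₃U : b₃ ∈ UT S := mul_mem h3 hb'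
  have hkb₃ : k' = s * b₃ := by rw [hkb, hb₃]; group
  have hb₃T : b₃ ∈ S.T := by
    refine mem_T_of_norm S hc hc1 hb₃U fun t ht => ?_
    have h4 := dih_T' S hsd (hkT t ht)
    have e : s⁻¹ * (k' * t * k'⁻¹) * s = b₃ * t * b₃⁻¹ := by rw [hkb₃]; group
    rwa [e] at h4
  have hXs : ∀ (j : ℤ) (x : G), x ∈ S.XZ j → ∃ y ∈ S.XZ j, a x = s * y * s⁻¹ := by
    intro j x hx
    refine ⟨b₃ * β x * b₃⁻¹, S.T_conj hb₃T j (hX0 j x hx), ?_⟩
    rw [hax, hkb₃]; group
  have fin : ∀ (j i : ℤ) (t x : G), ¬ (8 : ℤ) ∣ i - j → t ∈ S.Tk j → t ≠ 1 → t ∈ TQ S p → x ∈ S.XZ j → x ≠ 1 →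
      a x ∈ S.XZ i → False := by
    intro j i t x hji ht ht1 htQ hx hx1 hax'
    have h1 : t * x = x * t := Full.Tk_comm S ht hx
    have h2 := S.fpf hji ht ht1 hax' (by
      calc t * a x * t⁻¹ = a (t * x) * t⁻¹ := by rw [map_mul, ha t htQ]
        _ = a x * (t * t⁻¹) := by rw [h1, map_mul, ha t htQ, mul_assoc]
        _ = a x := by rw [mul_inv_cancel, mul_one])
    exact hx1 ((MulEquiv.map_eq_one_iff a).1 h2)
  rcases hs with rfl | rfl
  · have hx : S.e 4 1 0 ∈ S.XZ 8 := S.mX8 1 0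
    obtain ⟨y, hy, hay⟩ := hXs 8 _ hx
    refine fin 8 2 (S.h 1 c) (S.e 4 1 0) (by norm_num) (t0_T8 S) (h_ne S (Or.inr hc1)) (t0_mem S hc) hx
      (fun h => one_ne_zero (S.e_eq_one h).1) ?_
    rw [hay]
    exact S.n1_refl.mem' hy (by norm_num)
  · have hx : S.o 0 1 ∈ S.XZ 1 := S.mX1 1
    obtain ⟨y, hy, hay⟩ := hXs 1 _ hx
    refine fin 1 7 (S.h c c⁻¹) (S.o 0 1) (by norm_num) (t1_T1 S) (h_ne S (Or.inl hc1)) (t1_mem S hc) hx
      (fun h => one_ne_zero (S.o_eq_one h)) ?_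
    rw [hay]
    exact S.n2_refl.mem' hy (by norm_num)

open Cfsg.Agent.LieExceptional.BNPairCore Cfsg.Agent.Tits.OfBN in
/-- **the torus case** -/
theorem tor {P : Cfsg.BNPair G} (hPB : P.B = UT S) (hPS : P.S = {S.n1, S.n2}) (h : FixBN.Split P 2 (J S.XZ 1 8))
    (hF : ∃ c : Fˣ, c ≠ 1) (hR : S.R.p = 2) (hp2 : p ≠ 2) (hc : c ^ p = 1) (hc1 : c ≠ 1)
    (hidx : ∀ s ∈ P.S, ¬ p ∣ P.B.relIndex (P.parabolic {s}))
    [hN : ((P.B ⊓ P.N).subgroupOf P.N).Normal] {M : CoxeterMatrix P.S} (cs : CoxeterSystem M (WP P))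
    (hcs : ∀ i, cs.simple i = QuotientGroup.mk (⟨((Equiv.refl P.S i : P.S) : G), P.subset (Equiv.refl P.S i).2⟩ : P.N))
    [Fintype P.S] [DecidableEq P.S] (hcard : Fintype.card P.S = 2) {A : Subgroup (MulAut G)} (H : TP P A)
    (hA : ∀ s : G, MulAut.conj s ∈ A) {a : A} (ha : ∀ q ∈ TQ S p, (a : MulAut G) q = q) :
    stZ (H.PA cs hcs) a ≡ 1 [ZMOD p] := by
  have : Fact (Nat.Prime 2) := ⟨Nat.prime_two⟩
  by_cases hex : ∃ s ∈ P.S, ∃ g : G, (∀ q ∈ TQ S p, g⁻¹ * q * g ∈ P.parabolic {s}) ∧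
      g⁻¹ * (a : MulAut G) g * H.sel a ∈ P.parabolic {s}
  · obtain ⟨s, hs, g, hg1, hg2⟩ := hex
    have hs' : s = S.n1 ∨ s = S.n2 := by
      rw [hPS] at hs
      exact hs
    set Mx := P.parabolic {s} with hMx
    have hBM : P.B ≤ Mx := le_sup_left
    -- a fixed chamber in the panel
    obtain ⟨m, hm, hmq⟩ : ∃ m ∈ Mx, ∀ q ∈ TQ S p, m⁻¹ * (g⁻¹ * q * g) * m ∈ P.B := by
      let Q' : Subgroup Mx := ((TQ S p).map (MulAut.conj g⁻¹).toMonoidHom).subgroupOf Mx
      have hQ' : IsPGroup p Q' := by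
        have h1 : IsPGroup p ((TQ S p).map (MulAut.conj g⁻¹).toMonoidHom) := (TQ_p S p).map _
        exact h1.comap_of_injective Mx.subtype Subtype.val_injective
      obtain ⟨x, hx⟩ := hQ'.nonempty_fixed_point_of_prime_not_dvd_card (Mx ⧸ P.B.subgroupOf Mx) (by
        rw [← Subgroup.index_eq_card]
        exact hidx s hs)
      induction x using QuotientGroup.induction_on with
      | _ m =>
      refine ⟨m, m.2, fun q hq => ?_⟩
      have hqM : g⁻¹ * q * g ∈ Mx := hg1 q hq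
      have h1 := hx ⟨⟨g⁻¹ * q * g, hqM⟩, ⟨q, hq, by show g⁻¹ * q * g⁻¹⁻¹ = _; rw [inv_inv]; rfl⟩⟩
      have h2 : (QuotientGroup.mk ((⟨g⁻¹ * q * g, hqM⟩ : Mx) * m) : Mx ⧸ P.B.subgroupOf Mx) = QuotientGroup.mk m := h1
      rw [eq_comm, QuotientGroup.eq, Subgroup.mem_subgroupOf] at h2
      have h3 : (m : G)⁻¹ * (g⁻¹ * q * g * m) ∈ P.B := h2
      rwa [← mul_assoc] at h3
    set g' := g * m with hg'
    have hg'q : ∀ q ∈ TQ S p, g'⁻¹ * q * g' ∈ UT S := by
      intro q hq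
      rw [← hPB]
      have e : g'⁻¹ * q * g' = m⁻¹ * (g⁻¹ * q * g) * m := by rw [hg']; group
      rw [e]
      exact hmq q hq
    have hg'a : g'⁻¹ * (a : MulAut G) g' * H.sel a ∈ Mx := by
      have e : g'⁻¹ * (a : MulAut G) g' * H.sel a =
          m⁻¹ * (g⁻¹ * (a : MulAut G) g * H.sel a) * ((H.sel a)⁻¹ * (a : MulAut G) m * H.sel a) := by
        rw [hg', map_mul]; group
      rw [e]
      exact mul_mem (mul_mem (inv_mem hm) hg2) ((H.sel_spec a hBM m).2 hm)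
    obtain ⟨w, hw1, hw2, hwg⟩ := exists_dih S hR hp2 hc hc1 hg'q
    set b₁ := w⁻¹ * g' with hb₁
    have hb₁B : b₁ ∈ P.B := by rw [hPB]; exact hwg
    set s'' := w⁻¹ * (a : MulAut G) w * H.sel a with hs''
    have hs''M : s'' ∈ Mx := by
      have e : s'' = b₁ * (g'⁻¹ * (a : MulAut G) g' * H.sel a) * ((H.sel a)⁻¹ * (a : MulAut G) b₁⁻¹ * H.sel a) := by
        have e1 : w = g' * b₁⁻¹ := by rw [hb₁]; group
        have e2 : (a : MulAut G) w = (a : MulAut G) g' * (a : MulAut G) b₁⁻¹ := by rw [e1, map_mul]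
        rw [hs'', e2, hb₁]; group
      rw [e]
      exact mul_mem (mul_mem (hBM hb₁B) hg'a) ((H.sel_spec a hBM _).2 (hBM (inv_mem hb₁B)))
    let cw : A := ⟨MulAut.conj w, hA w⟩
    set a'' : A := cw⁻¹ * a * cw⁻¹⁻¹ with ha''
    have ha''v : ∀ x, (a'' : MulAut G) x = w⁻¹ * (a : MulAut G) (w * x * w⁻¹) * w := by
      intro x
      have e : a'' = cw⁻¹ * a * cw := by rw [ha'', inv_inv]
      have e2 : ((cw⁻¹ : A) : MulAut G) = MulAut.conj w⁻¹ := by
        show (MulAut.conj w)⁻¹ = _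
        rw [map_inv]
      rw [e]
      show ((cw⁻¹ : A) : MulAut G) ((a : MulAut G) (w * x * w⁻¹)) = _
      rw [e2]
      show w⁻¹ * (a : MulAut G) (w * x * w⁻¹) * w⁻¹⁻¹ = _
      rw [inv_inv]
    have hsel : Sel P (a'' : MulAut G) s'' := by
      intro x
      have e : s''⁻¹ * (a'' : MulAut G) x * s'' = (H.sel a)⁻¹ * (a : MulAut G) x * H.sel a := by
        rw [ha''v, hs'', map_mul, map_mul, map_inv]; group
      rw [e]
      exact H.sel_Sel a x
    have hq'' : ∀ q ∈ TQ S p, (a'' : MulAut G) q = q := by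
      intro q hq
      rw [ha''v, ha _ (TQ_conj S hw1 hq)]
      group
    have hB'' : s'' ∈ P.B := by
      rcases mem_par hs hs''M with h1 | h1
      · exact h1
      · exfalso
        obtain ⟨b1, hb1, b2, hb2, e⟩ := mem_C.1 h1
        rw [hPB] at hb1 hb2
        obtain ⟨u, hu, t, ht, rfl⟩ := hb1
        have hsd : S.IsDihE s := by
          rcases hs' with rfl | rfl
          · exact n1_dih S
          · exact n2_dih S
        refine panel S hPB hF hR hp2 hc hc1 hq'' hs' hsel hu (b := (s⁻¹ * t * s) * b2)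
          (mul_mem (T_le_UT S (dih_T' S hsd ht)) hb2) ?_
        rw [e]; group
    have hsel1 : Sel P (a'' : MulAut G) 1 := by
      intro x
      rw [← hsel x, inv_one, one_mul, mul_one]
      constructor
      · intro h1
        exact mul_mem (mul_mem (inv_mem hB'') h1) hB''
      · intro h1
        have h2 := mul_mem (mul_mem hB'' h1) (inv_mem hB'')
        have e : s'' * (s''⁻¹ * (a'' : MulAut G) x * s'') * s''⁻¹ = (a'' : MulAut G) x := by group
        rwa [e] at h2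
    have hbase := H.base cs hcs h hA hp2 (TQ_p S p) (by
      rw [hPB]
      exact (TQ_le S p).trans (T_le_UT S)) (fun u hu h => CU S hc hc1 hu h) hq'' hsel1
    obtain ⟨hirr, -⟩ := H.stA cs hcs h hA
    have hcl := Characters.Core.isIrr_isClassFunction hirr
    rw [Characters.Core.isClassFunction_def] at hcl
    have h5 := hcl a cw⁻¹
    have h6 : stZ (H.PA cs hcs) a'' = stZ (H.PA cs hcs) a := by exact_mod_cast h5
    rwa [h6] at hbase
  · have h1 := H.noFix cs hcs hA (TQ_p S p) (a := a) ha (by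
      intro Mx hB hM g hg hga
      apply hex
      rcases le_par (s := S.n1) (t := S.n2) hPS hB hM with h2 | h2
      · exact ⟨S.n1, by rw [hPS]; exact Or.inl rfl, g, fun q hq => h2 (hg q hq), h2 hga⟩
      · exact ⟨S.n2, by rw [hPS]; exact Or.inr rfl, g, fun q hq => h2 (hg q hq), h2 hga⟩)
    rw [hcard] at h1
    exact h1

end full

end Cfsg.Agent.H315.CY
end

-- part: H315/CY/TwFRow
section
/-!
# S4829: the row `²F₄(q)` (helper315)

`rowForA_tf4` : `RowForA p (Iso2F4)` for every odd prime `p` (all automorphisms, no hypothesis on the Sylow subgroups).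
-/

set_option autoImplicit false
set_option linter.unusedSectionVars false

open Cfsg Cfsg.Lie

namespace Cfsg.Agent.H315.CY

open Cfsg.Agent.KFacts.TwF4 Cfsg.Agent.KFacts.TwF4.AutTau
open Cfsg.Agent.SplitTwo Cfsg.Agent.SplitTwo.ZS Cfsg.Agent.TitsThree.RankTwoZ Cfsg.Agent.TitsThree.RankTwoRGD
open Cfsg.Agent.SplitTwo.RootSysZ Cfsg.Agent.H978.BR
open Cfsg.Agent.ChevalleyStructure.TwF4.Rel Cfsg.Agent.ChevalleyStructure.TwF4.TwistedFix
open Cfsg.Agent.KFacts.TwF4.Inst Cfsg.Agent.H770.CY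
open Cfsg.Agent.Schreier.TwFFour

section main

variable {K : Type} [Field K] [Fintype K] {m : ℕ}

theorem J_eq [CharP K 2] {φ : K →+* K} (hK : Fintype.card K = 2 ^ (2 * m + 1)) (hφ : Rln φ (2 ^ m)) :
    J (full hK hφ).XZ 1 8 = U0 K (2 ^ m) := by
  rw [Inst.U0_eq hφ]
  apply le_antisymm
  · refine J_le fun k h1 h2 => ?_
    obtain ⟨n, rfl⟩ := Int.eq_ofNat_of_zero_le (by omega : 0 ≤ k)
    refine le_iSup₂_of_le n ⟨by omega, by omega⟩ ?_
    intro x hx
    have h3 : x ∈ Cfsg.Agent.Octagon.KSys.XX K (2 ^ m) (((n : ℕ) : ℤ) : ZMod (2 * 8)) := hx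
    rwa [Int.cast_natCast] at h3
  · refine iSup₂_le fun k hk => ?_
    intro x hx
    refine mem_J (k := (k : ℤ)) ?_ (by exact_mod_cast hk.1) (by exact_mod_cast hk.2)
    show x ∈ Cfsg.Agent.Octagon.KSys.XX K (2 ^ m) (((k : ℕ) : ℤ) : ZMod (2 * 8))
    rwa [Int.cast_natCast]

open Pointwise Cfsg.Agent.Tits.OfBN Cfsg.Agent.LieExceptional.BNPairCore Cfsg.Agent.ChevalleyStructure.TwF4.Twisted in
/-- **the row `²F₄(q)`** -/
theorem rowA_tf4 [Fintype ↥(twistedF4 K (2 ^ m))] (hm : 1 ≤ m) (hK : Fintype.card K = 2 ^ (2 * m + 1)) {p : ℕ} [hp : Fact p.Prime] (hp2 : p ≠ 2)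
    (hd : p ∣ Nat.card ↥(twistedF4 K (2 ^ m))) : RowA p ↥(twistedF4 K (2 ^ m)) := by
  have h2 : Fact (Nat.Prime 2) := ⟨Nat.prime_two⟩
  have hchar : CharP K 2 := charP_two hK
  obtain ⟨φ, hφ⟩ := exists_rln hK
  set S := full hK hφ with hS
  have hR : S.R.p = 2 := rfl
  obtain ⟨P, hsp, hPS, hV, hV', hcV, hcV', hcU, hcT⟩ := exists_pairE hm hK hφ
  have hn1 : S.n1 = Cfsg.Agent.Octagon.KSys.m1 K (2 ^ m) := rfl
  have hn2 : S.n2 = Cfsg.Agent.Octagon.KSys.m2 hφ := rfl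
  have hU0 : J S.XZ 1 8 = U0 K (2 ^ m) := J_eq hK hφ
  rw [← hn1, ← hn2] at hPS
  rw [← hU0] at hsp hcU
  rw [← hU0, ← hn1] at hV
  rw [← hU0, ← hn2] at hV'
  rw [← hU0] at hcV hcV'
  have hG := Cfsg.Agent.S1068.result hK
  set q := 2 ^ (2 * m + 1) with hq
  have hq2 : 2 ≤ q := by rw [hq, pow_succ]; have := Nat.one_le_two_pow (n := 2 * m); omega
  have hF : ∃ c : Kˣ, c ≠ 1 := by
    by_contra hcon
    push Not at hcon
    have h3 : Nat.card Kˣ = 1 := Nat.card_eq_one_iff_unique.2 ⟨⟨fun a b => by rw [hcon a, hcon b]⟩, ⟨1⟩⟩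
    rw [Nat.card_units, Nat.card_eq_fintype_card, hK] at h3
    have h4 : 8 ≤ q := by
      rw [hq]
      calc 8 = 2 ^ 3 := by norm_num
        _ ≤ 2 ^ (2 * m + 1) := Nat.pow_le_pow_right (by norm_num) (by omega)
    omega
  have hPB : P.B = UT S := by
    ext g
    rw [mem_UT_iff S hF hR, ← hsp.normalizer_eq, Subgroup.mem_normalizer_iff]
  have hs : S.n1 ∈ P.S := by rw [hPS]; exact Or.inl rfl
  have ht : S.n2 ∈ P.S := by rw [hPS]; exact Or.inr rfl
  have hc1 := card_par hsp hs hV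
  have hc2 := card_par hsp ht hV'
  rw [hcV] at hc1
  rw [hcV'] at hc2
  have hBpos : 0 < Nat.card P.B := Nat.card_pos
  have hne12 : Nat.card (P.parabolic {S.n1}) ≠ Nat.card (P.parabolic {S.n2}) := by
    rw [hc1, hc2]
    intro h3
    have h4 := Nat.eq_of_mul_eq_mul_left hBpos h3
    nlinarith only [hq2, h4]
  have hTP : TPall P := tp_two hsp hPS hne12
  by_cases hpq : p ∣ q - 1
  · -- the torus case
    obtain ⟨c, hc⟩ : ∃ c : Kˣ, orderOf c = p := by
      apply exists_prime_orderOf_dvd_card' p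
      rw [Nat.card_units, Nat.card_eq_fintype_card, hK]
      exact hpq
    have hcp : c ^ p = 1 := by rw [← hc]; exact pow_orderOf_eq_one c
    have hc1' : c ≠ 1 := by
      rintro rfl
      rw [orderOf_one] at hc
      exact hp.out.one_lt.ne hc
    have hidx : ∀ s ∈ P.S, ¬ p ∣ P.B.relIndex (P.parabolic {s}) := by
      have hp3 : 2 < p := lt_of_le_of_ne hp.out.two_le (Ne.symm hp2)
      obtain ⟨k, hk⟩ := hpq
      have hk' : q = p * k + 1 := by omega
      have key : ∀ j : ℕ, ¬ p ∣ q ^ j + 1 := by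
        intro j hj
        have h3 : q ^ j ≡ 1 [MOD p] := by
          have h4 : q ≡ 1 [MOD p] := by
            rw [hk', Nat.ModEq, Nat.add_comm, Nat.add_mul_mod_self_left]
          have h5 := h4.pow j
          rwa [one_pow] at h5
        have h4 := h3.add_right 1
        have h5 : (0 : ℕ) ≡ 2 [MOD p] := ((Nat.modEq_zero_iff_dvd).2 hj).symm.trans h4
        rw [Nat.ModEq, Nat.zero_mod, Nat.mod_eq_of_lt hp3] at h5
        omega
      have hrel : ∀ {w : ↥(twistedF4 K (2 ^ m))} {x : ℕ}, Nat.card (P.parabolic {w}) = Nat.card P.B * x →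
          P.B.relIndex (P.parabolic {w}) = x := by
        intro w x hx
        have h3 : Nat.card P.B * P.B.relIndex (P.parabolic {w}) = Nat.card (P.parabolic {w}) := by
          have h4 := Subgroup.card_mul_index (P.B.subgroupOf (P.parabolic {w}))
          have hle : P.B ≤ P.parabolic {w} := le_sup_left
          have h5 := Nat.card_congr (Subgroup.subgroupOfEquivOfLe hle).toEquiv
          rw [h5] at h4
          exact h4
        rw [hx] at h3
        exact Nat.eq_of_mul_eq_mul_left hBpos h3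
      intro s hs
      rw [hPS] at hs
      rcases hs with rfl | hs
      · rw [hrel hc1]
        have := key 1
        rwa [pow_one] at this
      · rw [Set.mem_singleton_iff] at hs
        subst hs
        rw [hrel hc2]
        exact key 2
    refine rowA_of_TP hsp ⟨_, hs⟩ hTP hp2 1 ?_
    intro hN M cs hcs _ _ A hA H a hQ
    obtain ⟨Q, hQ⟩ := hQ
    have hcard : Fintype.card P.S = 2 := by
      rw [← Nat.card_eq_fintype_card, hPS]
      rw [Nat.card_coe_set_eq, Set.ncard_pair]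
      intro h3
      rw [h3] at hne12
      exact hne12 rfl
    obtain ⟨R, hR'⟩ := (TQ_p S p).exists_le_sylow
    obtain ⟨g, hg⟩ := MulAction.exists_smul_eq (↥(twistedF4 K (2 ^ m))) Q R
    let cg : A := ⟨MulAut.conj g, hA g⟩
    have hval : ∀ x ∈ TQ S p, ((cg * a * cg⁻¹ : A) : MulAut _) x = x := by
      intro x hx
      have hxR : x ∈ (R : Subgroup _) := hR' hx
      rw [← hg] at hxR
      have hxR' : x ∈ MulAut.conj g • (Q : Subgroup ↥(twistedF4 K (2 ^ m))) := hxR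
      obtain ⟨y, hy, hyx⟩ := hxR'
      have hyx' : g * y * g⁻¹ = x := hyx
      have e2 : ((cg⁻¹ : A) : MulAut ↥(twistedF4 K (2 ^ m))) = MulAut.conj g⁻¹ := by
        show (MulAut.conj g)⁻¹ = _
        rw [map_inv]
      show ((cg : A) : MulAut ↥(twistedF4 K (2 ^ m))) ((a : MulAut _) (((cg⁻¹ : A) : MulAut _) x)) = x
      rw [e2]
      have e3 : (MulAut.conj g⁻¹) x = y := by
        show g⁻¹ * x * g⁻¹⁻¹ = y
        rw [← hyx']; group
      rw [e3, hQ y hy]
      exact hyx'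
    have h3 := tor S hPB hPS hsp hF hR hp2 hcp hc1' hidx cs hcs hcard H hA (a := cg * a * cg⁻¹) hval
    obtain ⟨hirr, -⟩ := H.stA cs hcs hsp hA
    have hcl := Characters.Core.isIrr_isClassFunction hirr
    rw [Characters.Core.isClassFunction_def] at hcl
    have h5 := hcl a cg
    have h6 : stZ (H.PA cs hcs) (cg * a * cg⁻¹) = stZ (H.PA cs hcs) a := by exact_mod_cast h5
    rwa [h6] at h3
  · -- the elliptic case
    refine rowA_of_split hsp ⟨_, hs⟩ hTP hp2 ?_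
    intro M hBM hM
    have hB : Nat.card P.B = q ^ 12 * (q - 1) ^ 2 := by rw [card_B hsp, hcU, hcT]
    have hpp := hp.out
    have hp2' : ¬ p ∣ 2 := fun h => hp2 ((Nat.prime_dvd_prime_iff_eq hpp Nat.prime_two).1 h)
    have hpq' : ¬ p ∣ q := fun h => hp2' (hpp.dvd_of_dvd_pow h)
    have h36 : p ∣ (q ^ 3 + 1) ∨ p ∣ (q ^ 6 + 1) := by
      rw [hG] at hd
      rcases (hpp.dvd_mul).1 hd with h | h
      · rcases (hpp.dvd_mul).1 h with h | h
        · rcases (hpp.dvd_mul).1 h with h | h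
          · rcases (hpp.dvd_mul).1 h with h | h
            · exact (hpq' (hpp.dvd_of_dvd_pow h)).elim
            · exact (hpq h).elim
          · exact Or.inl h
        · have h4 : q ^ 4 - 1 = (q - 1) * ((q + 1) * (q ^ 2 + 1)) := by
            obtain ⟨k, hk⟩ : ∃ k, q = k + 1 := ⟨q - 1, by omega⟩
            rw [hk]
            have : 1 ≤ (k + 1) ^ 4 := Nat.one_le_pow _ _ (by omega)
            zify [this]
            push_cast
            ring
          rw [h4] at h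
          rcases (hpp.dvd_mul).1 h with h | h
          · exact (hpq h).elim
          · rcases (hpp.dvd_mul).1 h with h | h
            · left
              have e : q ^ 3 + 1 = (q + 1) * (q ^ 2 + 1 - q) := by
                have : q ≤ q ^ 2 + 1 := by nlinarith only []
                zify [this]
                ring
              rw [e]; exact Dvd.dvd.mul_right h _
            · right
              have e : q ^ 6 + 1 = (q ^ 2 + 1) * (q ^ 4 + 1 - q ^ 2) := by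
                have : q ^ 2 ≤ q ^ 4 + 1 :=
                  (Nat.pow_le_pow_right (by omega) (by norm_num)).trans (Nat.le_succ _)
                zify [this]
                ring
              rw [e]; exact Dvd.dvd.mul_right h _
      · exact Or.inr h
    have key : ∀ {w : ↥(twistedF4 K (2 ^ m))} {x y : ℕ}, Nat.card (P.parabolic {w}) = Nat.card P.B * (x + 1) →
        (x + 1) * (y + 1) = (q + 1) * (q ^ 2 + 1) → M ≤ P.parabolic {w} → p ∣ M.index := by
      intro w x y h5 hxy hle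
      have h6 := Subgroup.card_mul_index (P.parabolic {w})
      rw [h5, hB, hG] at h6
      have h7 := arith_idx hq2 (c := q ^ 12) (by positivity) (i := (P.parabolic {w}).index) (x := x) (y := y)
        (by rw [h6]) hxy
      refine Dvd.dvd.trans ?_ (Subgroup.index_dvd_of_le hle)
      rw [h7]
      rcases h36 with h | h
      · exact Dvd.dvd.mul_right (Dvd.dvd.mul_right h _) _
      · exact Dvd.dvd.mul_left h _
    rcases le_par hPS hBM hM with h | h
    · exact key hc1 (y := q ^ 2) (by ring) h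
    · exact key hc2 (y := q) (by ring) h

/-- **the row `tf4`** of S4829: all automorphisms, every odd prime, no hypothesis on the Sylow subgroups -/
theorem rowForA_tf4 {p : ℕ} [hp : Fact p.Prime] (hp2 : p ≠ 2) : RowForA p (fun X _ => Lie.Iso2F4 X) := by
  intro X _ _ _ _ hd h
  obtain ⟨K, _, _, m, hm, hK, ⟨e⟩⟩ := h
  rw [Nat.card_congr e.toEquiv] at hd
  have hf : Fintype ↥(twistedF4 K (2 ^ m)) := Fintype.ofFinite _
  exact Cfsg.Agent.H776.CY.RowA.congr e (rowA_tf4 hm hK hp2 hd)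

end main

end Cfsg.Agent.H315.CY
end

private theorem dce_2645d1333731 : _root_.True := by
  try have : _root_.True := by simp only [_root_.Cfsg.Agent.Schreier.TwFFour.V1.congr_simp]
  try have : _root_.True := by simp only [_root_.Cfsg.Agent.Schreier.TwFFour.V8.congr_simp]
  exact _root_.True.intro
end
end
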